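import Groth.Agent.Lib.DualSm27.Basic
import Groth.Agent.Lib.SerrePn27.CMDuality
import Groth.Agent.Lib.SerrePn27.LocFree
import Groth.Agent.Lib.CodimExt27.Basic
import Groth.Agent.Lib.IntMult4.Regular
import Groth.Agent.Lib.AffDom.FibreDim
import Groth.Agent.Lib.ConnH0.Basic
import Groth.Agent.Lib.CanonTriv.Basic

/-!
# Serre duality on a smooth connected projective scheme
-/

set_option autoImplicit false
set_option maxHeartbeats 800000
set_option linter.style.haveILetI false
set_option backward.isDefEq.respectTransparency false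

universe u

open CategoryTheory CategoryTheory.Limits AlgebraicGeometry Opposite TopologicalSpace
open CategoryTheory.Abelian (Ext)

noncomputable section

namespace GrothLib.DualSm27

variable (k : Type u) [Field k] (N d : ℕ) (X : Scheme.{u}) [X.Over (Spec (CommRingCat.of k))]
  (ι' : X ⟶ CohB1.ProjSpace N k) [IsClosedImmersion ι']
  (hι : ι' ≫ CohB1.ProjSpace.toSpec N k = X ↘ Spec (CommRingCat.of k))
  [SmoothOfRelativeDimension d (X ↘ Spec (CommRingCat.of k))]

include hι d in
theorem regular_stalk (x : X) : IsRegularLocalRing (X.presheaf.stalk x) := by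
  haveI : Smooth (X ↘ Spec (CommRingCat.of k)) := SmoothOfRelativeDimension.smooth d _
  haveI := Chow.isProper_toSpec N k
  haveI : IsProper (X ↘ Spec (CommRingCat.of k)) := hι ▸ inferInstance
  exact Groth.Agent.Lib.AlgMisc.GeomRegAt.isRegularLocalRing_stalk_of_mem_smoothLocus
    (X ↘ Spec (CommRingCat.of k)) (x := x) (by rw [(X ↘ Spec (CommRingCat.of k)).smoothLocus_eq_top]; trivial)

include hι d in
theorem isReduced : IsReduced X := by
  haveI : ∀ x : X, _root_.IsReduced (X.presheaf.stalk x) := fun x => by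
    haveI := regular_stalk k N d X ι' hι x
    haveI := GrothLib.CMFree.isDomain_of_isRegularLocalRing (X.presheaf.stalk x)
    infer_instance
  exact isReduced_of_isReduced_stalk X

include hι in
theorem dim_eq [Nonempty X] : topologicalKrullDim ↥X = (d : WithBot ℕ∞) := by
  refine le_antisymm (SerrePn27.topologicalKrullDim_le_of_components fun Z hZ =>
    (component_dim k N d X ι' hι Z hZ).le) ?_
  obtain ⟨x⟩ := ‹Nonempty X›
  rw [← component_dim k N d X ι' hι _ (irreducibleComponent_mem_irreducibleComponents x)]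
  exact Topology.IsInducing.subtypeVal.topologicalKrullDim_le

include hι in
theorem cm_closedPoint (x : X) (hx : IsClosed ({x} : Set X)) :
    LocCoh.IsCohenMacaulayLocalRing (X.presheaf.stalk x) ∧ ringKrullDim (X.presheaf.stalk x) = d := by
  haveI := regular_stalk k N d X ι' hι x
  haveI := Chow.isProper_toSpec N k
  haveI : IsProper (X ↘ Spec (CommRingCat.of k)) := hι ▸ inferInstance
  refine ⟨IntMult4.isCohenMacaulayLocalRing, ?_⟩
  have h := CodimExt27.ptDim_add_dim_stalk (X ↘ Spec (CommRingCat.of k)) (component_dim k N d X ι' hι) x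
  rwa [AffDom.ptDim_closedPoint hx, zero_add] at h

variable (L : X.Modules) (hL : ExtPow.IsExtPow d (Omega.sheaf (X ↘ Spec (CommRingCat.of k))) L)

include hι hL in
theorem isFinLocFree_top : FlatMod.IsFinLocFree L := by
  haveI := Chow.isProper_toSpec N k
  haveI : IsProper (X ↘ Spec (CommRingCat.of k)) := hι ▸ inferInstance
  exact ExtPowX.isFinLocFree_extPow (Adj27.isFinLocFree_omega _ d) hL

include hι hL in
/-- Serre duality. -/
theorem nonempty_ext_dual [Nonempty X] [HasExt.{u} X.Modules] (F : X.Modules) (hF : Coh.IsCoh F) (i : ℕ) (hi : i ≤ d) :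
    Nonempty (Ext F L i ≃ₗ[k] Module.Dual k (Coh.HH X F (d - i))) := by
  haveI := SerrePn27.isLocallyNoetherian_of_closed ι'
  obtain ⟨t, ht⟩ := exists_dualizing k N d X ι' hι L hL
  exact (SerrePn27.dualityCM ι' hι (dim_eq k N d X ι' hι) (cm_closedPoint k N d X ι' hι)
    (Euler.isCoh_of_isFinLocFree (isFinLocFree_top k N d X ι' hι L hL)) t ht F hF).1 i hi

include hι hL in
theorem nonempty_dual_HH [Nonempty X] (F : X.Modules) (hF : FlatMod.IsFinLocFree F) [DCoh.HasSheafHom F]
    (p : ℕ) (hp : p ≤ d) :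
    Nonempty (Module.Dual k (Coh.HH X F p) ≃ₗ[k] Coh.HH X ((DCoh.sheafHom F).obj L) (d - p)) := by
  haveI := SerrePn27.isLocallyNoetherian_of_closed ι'
  haveI : HasExt.{u} X.Modules := CategoryTheory.hasExt_of_enoughInjectives X.Modules
  obtain ⟨a⟩ := nonempty_ext_dual k N d X ι' hι L hL F (Euler.isCoh_of_isFinLocFree hF) (d - p) (by omega)
  obtain ⟨b⟩ := SerrePn27.nonempty_ext_linearEquiv_HH_of_finLocFree (k := k) hF (d - p) L
  rw [show d - (d - p) = p by omega] at a
  exact ⟨a.symm.trans b⟩

include hι hL in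
theorem isInvertible_top : PicF.IsInvertible L := by
  haveI := Chow.isProper_toSpec N k
  haveI : IsProper (X ↘ Spec (CommRingCat.of k)) := hι ▸ inferInstance
  refine CanonTriv.isInvertible_of_isExtPow (fun x => ?_) hL
  obtain ⟨U, hU, T, hT, hxT, e, h⟩ := SmoothOfRelativeDimension.exists_isStandardSmoothOfRelativeDimension (n := d)
    (f := (X ↘ Spec (CommRingCat.of k))) x
  letI := ((X ↘ Spec (CommRingCat.of k)).appLE U T e).hom.toAlgebra
  haveI : Algebra.IsStandardSmoothOfRelativeDimension d Γ(Spec (CommRingCat.of k), U) Γ(X, T) := h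
  obtain ⟨s, hs⟩ := Adj27.exists_bijective_coords d Γ(Spec (CommRingCat.of k), U) Γ(X, T)
  exact ⟨T, hxT, FinCov.exists_iso_of_frame (Adj27.isFrame_dd _ hT hU e s hs)⟩

include hι hL in
theorem nonempty_sheafHom_self [DCoh.HasSheafHom L] :
    Nonempty ((DCoh.sheafHom L).obj L ≅ Coh.structureModule X) := by
  haveI := FundIso27.isEquivalence_tensor (isInvertible_top k N d X ι' hι L hL)
  haveI : ((DCoh.tensorBi (X := X)).obj L).IsEquivalence :=
    Functor.isEquivalence_of_iso ((OX.tensorBraiding (X := X)).app L)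
  obtain ⟨u⟩ : Nonempty (((DCoh.tensorBi (X := X)).obj L).obj (Coh.structureModule X) ≅ L) :=
    ⟨GrTilde.tensorModComm (X := X) _ _ ≪≫ OX.tensorUnitLeftIso _⟩
  exact ⟨(DCoh.sheafHom L).mapIso u.symm ≪≫
    (asIso ((DCoh.sheafHomAdj L).unit.app (Coh.structureModule X))).symm⟩

include hι hL in
theorem finrank_top_eq_one [IsAlgClosed k] [ConnectedSpace X] : Module.finrank k (Coh.HH X L d) = 1 := by
  haveI := Chow.isProper_toSpec N k
  haveI : IsProper (X ↘ Spec (CommRingCat.of k)) := hι ▸ inferInstance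
  haveI := isReduced k N d X ι' hι
  haveI := SerrePn27.isLocallyNoetherian_of_closed ι'
  haveI : Nonempty X := inferInstance
  have hfl := isFinLocFree_top k N d X ι' hι L hL
  haveI : DCoh.HasSheafHom L := LocFreeHom.hasSheafHom L
  obtain ⟨e⟩ := nonempty_dual_HH k N d X ι' hι L hL L hfl d le_rfl
  obtain ⟨a⟩ := nonempty_sheafHom_self k N d X ι' hι L hL
  rw [← Subspace.dual_finrank_eq, e.finrank_eq, Nat.sub_self, (SerrePn27.hhMapEquiv (k := k) a 0).finrank_eq]
  exact ConnH0.finrank_H0_eq_one k

end GrothLib.DualSm27
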