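import Groth.Agent.S11903
import Groth.Agent.S11906
import Groth.Agent.Lib.OmegaPn27.Proj
import Groth.Agent.Lib.CotTangent.Components

/-!
# Top forms of a smooth projective scheme are dualizing
-/

set_option autoImplicit false
set_option maxHeartbeats 800000
set_option linter.style.haveILetI false
set_option backward.isDefEq.respectTransparency false

universe u

open CategoryTheory CategoryTheory.Limits AlgebraicGeometry Opposite TopologicalSpace

noncomputable section

namespace GrothLib.DualSm27

variable (k : Type u) [Field k] (n r : ℕ) (X : Scheme.{u}) [X.Over (Spec (CommRingCat.of k))]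
  (ι' : X ⟶ CohB1.ProjSpace n k) [IsClosedImmersion ι']
  (hι : ι' ≫ CohB1.ProjSpace.toSpec n k = X ↘ Spec (CommRingCat.of k))
  [SmoothOfRelativeDimension r (X ↘ Spec (CommRingCat.of k))]

include hι in
theorem le_of_nonempty [Nonempty X] : r ≤ n := by
  haveI := OmegaPn27.smoothOfRelativeDimension_toSpec n k
  haveI : QuasiSeparated (CohB1.ProjSpace.toSpec n k) := inferInstance
  haveI := Chow.isProper_toSpec n k
  haveI : IsProper (X ↘ Spec (CommRingCat.of k)) := hι ▸ inferInstance
  obtain ⟨z⟩ := ‹Nonempty X›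
  obtain ⟨c, V, f, g, hn, -⟩ := Adj27.exists_isChart (CohB1.ProjSpace.toSpec n k) (X ↘ Spec (CommRingCat.of k)) ι' n r
    hι z ⊤ trivial
  omega

include hι in
theorem component_dim (Z : Set ↥X) (hZ : Z ∈ irreducibleComponents ↥X) :
    topologicalKrullDim ↥Z = (r : WithBot ℕ∞) := by
  haveI := Chow.isProper_toSpec n k
  haveI : IsProper (X ↘ Spec (CommRingCat.of k)) := hι ▸ inferInstance
  haveI : CompactSpace X := QuasiCompact.compactSpace_of_compactSpace (X ↘ Spec (CommRingCat.of k))
  exact CotTangent.topologicalKrullDim_component_of_smooth (X ↘ Spec (CommRingCat.of k)) r Z hZ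

include hι in
/-- The top forms satisfy the hypothesis of the duality theorem. -/
theorem nonempty_ext_iso (Ω : X.Modules) (hΩ : ExtPow.IsExtPow r (Omega.sheaf (X ↘ Spec (CommRingCat.of k))) Ω)
    [ModSite.HasSheafHom (O := (CohB1.ProjSpace n k).sheaf) ((Scheme.Modules.pushforward ι').obj (Coh.structureModule X))]
    [HasInjectiveResolutions (ModSite.Mod (CohB1.ProjSpace n k).sheaf)] :
    Nonempty ((Scheme.Modules.pushforward ι').obj Ω ≅
      (ModSite.extSh (O := (CohB1.ProjSpace n k).sheaf) ((Scheme.Modules.pushforward ι').obj (Coh.structureModule X)) (n - r)).obj (Twist.twistProjSpace n k (-((n : ℤ) + 1)))) := by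
  haveI := OmegaPn27.smoothOfRelativeDimension_toSpec n k
  haveI : QuasiSeparated (CohB1.ProjSpace.toSpec n k) := inferInstance
  exact Groth.Agent.S11906.result (Spec (CommRingCat.of k)) (CohB1.ProjSpace n k) X (CohB1.ProjSpace.toSpec n k)
    (X ↘ Spec (CommRingCat.of k)) ι' hι n r _ (OmegaPn27.isExtPow_twist n k) Ω hΩ

include hι in
/-- The top forms are dualizing. -/
theorem exists_dualizing (Ω : X.Modules) (hΩ : ExtPow.IsExtPow r (Omega.sheaf (X ↘ Spec (CommRingCat.of k))) Ω) :
    ∃ t : Coh.HH X Ω r →ₗ[k] k, ∀ F : X.Modules, Coh.IsCoh F → ∀ ψ : Coh.HH X F r →ₗ[k] k,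
      ∃! φ : F ⟶ Ω, ∀ x : Coh.HH X F r,
        ψ x = t (Sheaf.H.map ((SheafOfModules.toSheaf X.ringCatSheaf).map φ) r x) := by
  by_cases hX : Nonempty X
  · haveI := SheafCoh.hasSheafHom (CohB1.ProjSpace n k).sheaf
      ((Scheme.Modules.pushforward ι').obj (Coh.structureModule X))
    haveI : HasInjectiveResolutions (ModSite.Mod (CohB1.ProjSpace n k).sheaf) :=
      inferInstanceAs (HasInjectiveResolutions (CohB1.ProjSpace n k).Modules)
    exact Groth.Agent.S11903.result k n r (le_of_nonempty k n r X ι' hι) X ι' hι (component_dim k n r X ι' hι) Ω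
      (nonempty_ext_iso k n r X ι' hι Ω hΩ)
  · haveI : IsEmpty X := not_nonempty_iff.1 hX
    have hz : ∀ (M : X.Modules) (U : X.Opens) (a b : Γ(M, U)), a = b := fun M U a b => by
      obtain rfl : U = ⊥ := le_bot_iff.1 fun x _ => isEmptyElim x
      exact @Subsingleton.elim _ (Cohom.subsingleton_sections_bot (Coh.toAb M)) _ _
    refine ⟨0, fun F hF ψ => ⟨0, fun x => ?_, fun φ _ => Scheme.Modules.hom_ext _ _ fun U => ?_⟩⟩
    · have hF0 : IsZero F := (IsZero.iff_id_eq_zero F).2 (Scheme.Modules.hom_ext _ _ fun U =>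
        AddCommGrpCat.ext fun m => hz F U _ _)
      haveI := Cohom.subsingleton_HH_of_isZero hF0 r
      rw [Subsingleton.elim x 0, map_zero]; simp
    · exact AddCommGrpCat.ext fun m => hz Ω U _ _

end GrothLib.DualSm27
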