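import Groth.Agent.Lib.DualSm27.Serre
import Groth.Agent.Lib.WedgePair27.Sheaf

/-!
# Symmetry of the Hodge numbers
-/

set_option autoImplicit false
set_option maxHeartbeats 800000
set_option linter.style.haveILetI false
set_option backward.isDefEq.respectTransparency false

universe u

open CategoryTheory CategoryTheory.Limits AlgebraicGeometry Opposite TopologicalSpace

noncomputable section

namespace GrothLib.DualSm27

variable (k : Type u) [Field k] (N d : ℕ) (X : Scheme.{u}) [X.Over (Spec (CommRingCat.of k))]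
  (ι' : X ⟶ CohB1.ProjSpace N k) [IsClosedImmersion ι']
  (hι : ι' ≫ CohB1.ProjSpace.toSpec N k = X ↘ Spec (CommRingCat.of k))
  [SmoothOfRelativeDimension d (X ↘ Spec (CommRingCat.of k))]

include hι in
theorem finrank_extPow_symm [Nonempty X] (p q : ℕ) (hp : p ≤ d) (hq : q ≤ d) (L L' : X.Modules)
    (hL : ExtPow.IsExtPow p (Omega.sheaf (X ↘ Spec (CommRingCat.of k))) L)
    (hL' : ExtPow.IsExtPow (d - p) (Omega.sheaf (X ↘ Spec (CommRingCat.of k))) L') :
    Module.finrank k (Coh.HH X L q) = Module.finrank k (Coh.HH X L' (d - q)) := by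
  haveI := Chow.isProper_toSpec N k
  haveI : IsProper (X ↘ Spec (CommRingCat.of k)) := hι ▸ inferInstance
  let E := Omega.sheaf (X ↘ Spec (CommRingCat.of k))
  have hE : FlatMod.IsFinLocFree E := Adj27.isFinLocFree_omega _ d
  haveI : DCoh.HasSheafHom (ExtPowX.wedge E p) := LocFreeHom.hasSheafHom _
  have hrk : ∀ x : X, ∃ (U : X.Opens) (e : Fin d → Γ(E, U)), x ∈ U ∧ FinCov.IsFrame E U e := fun x => by
    obtain ⟨U, hU, T, hT, hxT, e, h⟩ := SmoothOfRelativeDimension.exists_isStandardSmoothOfRelativeDimension (n := d)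
      (f := (X ↘ Spec (CommRingCat.of k))) x
    letI := ((X ↘ Spec (CommRingCat.of k)).appLE U T e).hom.toAlgebra
    haveI : Algebra.IsStandardSmoothOfRelativeDimension d Γ(Spec (CommRingCat.of k), U) Γ(X, T) := h
    obtain ⟨s, hs⟩ := Adj27.exists_bijective_coords d Γ(Spec (CommRingCat.of k), U) Γ(X, T)
    exact ⟨T, _, hxT, Adj27.isFrame_dd _ hT hU e s hs⟩
  obtain ⟨a⟩ := ExtPowX.nonempty_iso hL (ExtPowX.isExtPow_wedge hE p) (Iso.refl E)
  obtain ⟨b⟩ := ExtPowX.nonempty_iso hL' (ExtPowX.isExtPow_wedge hE (d - p)) (Iso.refl E)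
  obtain ⟨c⟩ := WedgePair27.nonempty_iso_iHom E hE (p := p) (q := d - p) (n := d) (by omega) hrk
  obtain ⟨D⟩ := nonempty_dual_HH k N d X ι' hι (ExtPowX.wedge E d) (ExtPowX.isExtPow_wedge hE d)
    (ExtPowX.wedge E p) (ExtPowX.isFinLocFree_wedge hE p) q hq
  rw [(SerrePn27.hhMapEquiv (k := k) a q).finrank_eq, (SerrePn27.hhMapEquiv (k := k) (b ≪≫ c) (d - q)).finrank_eq,
    ← Subspace.dual_finrank_eq, D.finrank_eq]

end GrothLib.DualSm27
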